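import Groth.Prelude.Def_SheafNL
import Mathlib.RingTheory.TensorProduct.MvPolynomial
import Mathlib.LinearAlgebra.TensorProduct.RightExactness

/-!
# Base change of the naive cotangent complex along a cocartesian square, on the same variables
-/

universe u

open TensorProduct MvPolynomial Algebra.Extension

set_option backward.isDefEq.respectTransparency false
set_option synthInstance.maxHeartbeats 200000

namespace Groth.Agent.FlatMor12.NLBaseChange

variable {R S R' S' : Type u} [CommRing R] [CommRing S] [CommRing R']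
    [CommRing S'] [Algebra R S] [Algebra R' S'] [Algebra R R'] [Algebra S S'] [Algebra R S']
    [IsScalarTower R R' S'] [IsScalarTower R S S']
    {ι : Type u} (G : Algebra.Generators R S ι) (G' : Algebra.Generators R' S' ι)
    (h : ∀ i, G'.val i = algebraMap S S' (G.val i))

/-- The map on the variables. -/
local notation "φ" => MvPolynomial.map (σ := ι) (algebraMap R R')

theorem sameVars_toAlgHom_apply (x : MvPolynomial ι R) :
    (NLCx.sameVarsHom G G' h).toAlgHom x = φ x := by
  induction x using MvPolynomial.induction_on with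
  | C r =>
    rw [MvPolynomial.map_C]
    exact Algebra.Generators.Hom.toAlgHom_C _ r
  | add a b ha hb => rw [map_add, map_add, ha, hb]
  | mul_X p i hp =>
    rw [map_mul, map_mul, hp, MvPolynomial.map_X]
    exact congrArg (φ p * ·) (Algebra.Generators.Hom.toAlgHom_X _ i)

include h in
theorem aeval_map_eq (x : MvPolynomial ι R) :
    aeval G'.val (φ x) = algebraMap S S' (aeval G.val x) := by
  rw [← sameVars_toAlgHom_apply G G' h]
  exact (NLCx.sameVarsHom G G' h).algebraMap_toAlgHom x

include h in
theorem ker_eq [Algebra.IsPushout R R' S S'] :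
    (G'.ker : Ideal (MvPolynomial ι R')) = Ideal.map φ (G.ker : Ideal (MvPolynomial ι R)) := by
  rw [Algebra.Generators.ker_eq_ker_aeval_val, Algebra.Generators.ker_eq_ker_aeval_val]
  apply le_antisymm
  · intro x hx
    set ψ := MvPolynomial.algebraTensorAlgEquiv (σ := ι) R R'
    have key : ∀ z : R' ⊗[R] MvPolynomial ι R, aeval G'.val (ψ z) =
        Algebra.IsPushout.equiv R R' S S'
          (Algebra.TensorProduct.map (AlgHom.id R' R') (aeval (R := R) G.val) z) := by
      intro z
      induction z with
      | zero => simp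
      | add a b ha hb => simp only [map_add, ha, hb]
      | tmul r p =>
        rw [Algebra.TensorProduct.map_tmul, Algebra.IsPushout.equiv_tmul,
          MvPolynomial.algebraTensorAlgEquiv_tmul, LinearMapClass.map_smul, aeval_map_eq G G' h,
          Algebra.smul_def, AlgHom.id_apply]
    obtain ⟨z, rfl⟩ := ψ.surjective x
    rw [RingHom.mem_ker, key, map_eq_zero_iff _ (AlgEquiv.injective _)] at hx
    have hz : z ∈ Ideal.map (Algebra.TensorProduct.includeRight :
        MvPolynomial ι R →ₐ[R] R' ⊗[R] MvPolynomial ι R) (RingHom.ker (aeval (R := R) G.val)) := by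
      rw [← Algebra.TensorProduct.lTensor_ker _ G.aeval_val_surjective]
      exact hx
    have h2 := Ideal.mem_map_of_mem ψ.toRingEquiv.toRingHom hz
    change ψ z ∈ _ at h2
    rw [Ideal.map] at h2
    refine (Ideal.span_le.mpr ?_) h2
    rintro _ ⟨w, hw, rfl⟩
    rw [SetLike.mem_coe] at hw ⊢
    show ψ w ∈ _
    induction hw using Submodule.span_induction with
    | mem w hw =>
      obtain ⟨p, hp, rfl⟩ := hw
      rw [Algebra.TensorProduct.includeRight_apply, MvPolynomial.algebraTensorAlgEquiv_tmul, one_smul]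
      exact Ideal.mem_map_of_mem _ hp
    | zero => rw [map_zero]; exact zero_mem _
    | add a b _ _ ha hb => rw [map_add]; exact add_mem ha hb
    | smul a b _ hb => rw [smul_eq_mul, map_mul]; exact Ideal.mul_mem_left _ _ hb
  · rw [Ideal.map_le_iff_le_comap]
    intro x hx
    rw [Ideal.mem_comap, RingHom.mem_ker, aeval_map_eq G G' h, RingHom.mem_ker.1 hx, map_zero]

variable {G G'}

theorem smul_cotangent {R₀ S₀ : Type u} [CommRing R₀] [CommRing S₀] [Algebra R₀ S₀] {σ : Type u}
    (Q : Algebra.Generators R₀ S₀ σ) (p : MvPolynomial σ R₀) (m : Q.toExtension.Cotangent) :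
    (aeval Q.val p) • m = (show Q.toExtension.Ring from p) • m := by
  rw [← Q.algebraMap_apply]
  rfl

theorem mk_smul {R₀ S₀ : Type u} [CommRing R₀] [CommRing S₀] [Algebra R₀ S₀] {σ : Type u}
    (Q : Algebra.Generators R₀ S₀ σ) (p : MvPolynomial σ R₀) (i : (Q.ker : Ideal (MvPolynomial σ R₀))) :
    Cotangent.mk (P := Q.toExtension) (p • i : (Q.ker : Ideal (MvPolynomial σ R₀))) =
      aeval Q.val p • Cotangent.mk (P := Q.toExtension) i :=
  ((Cotangent.mk (P := Q.toExtension)).map_smul (show Q.toExtension.Ring from p) i).trans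
    (smul_cotangent Q p _).symm

theorem map_mk_eq (x : G.toExtension.ker) (hx) :
    Cotangent.map (NLCx.sameVarsHom G G' h).toExtensionHom (Cotangent.mk x) =
      Cotangent.mk (P := G'.toExtension) ⟨φ x.1, hx⟩ := by
  rw [Cotangent.map_mk]
  exact congrArg _ (Subtype.ext (sameVars_toAlgHom_apply G G' h x.1))

include h in
theorem map_mem_ker {x : MvPolynomial ι R} (hx : x ∈ G.ker) : φ x ∈ G'.ker := by
  rw [Algebra.Generators.ker_eq_ker_aeval_val, RingHom.mem_ker] at hx ⊢
  rw [aeval_map_eq G G' h, hx, map_zero]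

theorem cot_surjective [Algebra.IsPushout R R' S S'] :
    Function.Surjective
      (LinearMap.liftBaseChange S' (Cotangent.map (NLCx.sameVarsHom G G' h).toExtensionHom)) := by
  intro y
  obtain ⟨⟨x, hx⟩, rfl⟩ := Cotangent.mk_surjective y
  set L := LinearMap.liftBaseChange S' (Cotangent.map (NLCx.sameVarsHom G G' h).toExtensionHom)
  suffices Cotangent.mk ⟨x, hx⟩ ∈ LinearMap.range L from this
  have hx' : x ∈ Ideal.span (φ '' (G.ker : Set (MvPolynomial ι R))) := (ker_eq G G' h).le hx
  induction hx' using Submodule.span_induction with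
  | mem w hw =>
    obtain ⟨p, hp, rfl⟩ := hw
    exact ⟨1 ⊗ₜ Cotangent.mk ⟨p, hp⟩, by
      rw [LinearMap.liftBaseChange_tmul, one_smul, map_mk_eq h]⟩
  | zero => exact ⟨0, by rw [map_zero]; exact (map_zero _).symm⟩
  | add a b ha hb ha' hb' =>
    have h1 := ha' ((ker_eq G G' h).ge ha)
    have h2 := hb' ((ker_eq G G' h).ge hb)
    have h3 := add_mem h1 h2
    rw [← map_add] at h3
    exact h3
  | smul a b hb hb' =>
    have h1 := Submodule.smul_mem _ (aeval G'.val a) (hb' ((ker_eq G G' h).ge hb))
    rw [smul_cotangent G' a, ← map_smul] at h1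
    exact h1

section Injective

/-- Inclusion of the kernel. -/
noncomputable abbrev incl : (G.ker : Ideal (MvPolynomial ι R)) →ₗ[R] MvPolynomial ι R :=
  (G.ker : Ideal (MvPolynomial ι R)).subtype.restrictScalars R

variable (G G') in
/-- `R' ⊗ I → R'[X]`. -/
noncomputable def Φ : R' ⊗[R] (G.ker : Ideal (MvPolynomial ι R)) →ₗ[R'] MvPolynomial ι R' :=
  (MvPolynomial.algebraTensorAlgEquiv (σ := ι) R R').toLinearMap ∘ₗ (incl (G := G)).baseChange R'

theorem Φ_tmul (r : R') (i : (G.ker : Ideal (MvPolynomial ι R))) :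
    Φ (R' := R') G (r ⊗ₜ i) = C r * φ i.1 := by
  rw [Φ, LinearMap.comp_apply, LinearMap.baseChange_tmul, AlgEquiv.toLinearMap_apply,
    MvPolynomial.algebraTensorAlgEquiv_tmul, smul_eq_C_mul]
  rfl

theorem Φ_injective (hinj : Function.Injective (LinearMap.lTensor R' (incl (G := G)))) :
    Function.Injective (Φ (R' := R') G) :=
  (MvPolynomial.algebraTensorAlgEquiv (σ := ι) R R').injective.comp hinj

variable (S') (G) in
/-- `R' ⊗ I → S' ⊗ I/I²`. -/
noncomputable def Θ : R' ⊗[R] (G.ker : Ideal (MvPolynomial ι R)) →+ S' ⊗[S] G.toExtension.Cotangent :=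
  TensorProduct.liftAddHom
    { toFun := fun r =>
        { toFun := fun i => algebraMap R' S' r ⊗ₜ Cotangent.mk (P := G.toExtension) i
          map_zero' := by erw [map_zero]; exact tmul_zero _ _
          map_add' := fun a b => by erw [map_add]; exact tmul_add _ _ _ }
      map_zero' := by ext i; simp
      map_add' := fun a b => by ext i; simp [add_tmul] }
    (fun c r i => by
      show algebraMap R' S' (c • r) ⊗ₜ _ = algebraMap R' S' r ⊗ₜ _
      rw [Algebra.smul_def, map_mul, ← IsScalarTower.algebraMap_apply,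
        IsScalarTower.algebraMap_apply R S S', ← Algebra.smul_def, smul_tmul]
      congr 1
      have e : (c • i : (G.ker : Ideal (MvPolynomial ι R))) = (C c : MvPolynomial ι R) • i :=
        Subtype.ext (by simp [smul_eq_C_mul])
      rw [e, mk_smul G, aeval_C])

theorem Θ_tmul (r : R') (i : (G.ker : Ideal (MvPolynomial ι R))) :
    Θ S' G (r ⊗ₜ i) = algebraMap R' S' r ⊗ₜ Cotangent.mk (P := G.toExtension) i := rfl

variable (G) in
/-- The relation inverting the comparison map. -/
def Rel (j : MvPolynomial ι R') (x : S' ⊗[S] G.toExtension.Cotangent) : Prop :=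
  ∃ t, Φ (R' := R') G t = j ∧ Θ S' G t = x

theorem Rel.add {a b : MvPolynomial ι R'} {x y : S' ⊗[S] G.toExtension.Cotangent}
    (ha : Rel G a x) (hb : Rel G b y) : Rel G (a + b) (x + y) := by
  obtain ⟨t, rfl, rfl⟩ := ha
  obtain ⟨u, rfl, rfl⟩ := hb
  exact ⟨t + u, map_add _ _ _, map_add _ _ _⟩

theorem Rel.C_mul {a : MvPolynomial ι R'} {x : S' ⊗[S] G.toExtension.Cotangent} (ha : Rel G a x)
    (r : R') : Rel G (C r * a) (algebraMap R' S' r • x) := by
  obtain ⟨t, rfl, rfl⟩ := ha
  refine ⟨r • t, by rw [map_smul, smul_eq_C_mul], ?_⟩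
  induction t with
  | zero => simp
  | add p q hp hq => simp only [smul_add, map_add, hp, hq]
  | tmul p q => rw [smul_tmul', Θ_tmul, Θ_tmul, smul_tmul', smul_eq_mul, smul_eq_mul, map_mul]

include h in
theorem Rel.X_mul {a : MvPolynomial ι R'} {x : S' ⊗[S] G.toExtension.Cotangent} (ha : Rel G a x)
    (i : ι) : Rel G (X i * a) (G'.val i • x) := by
  obtain ⟨t, rfl, rfl⟩ := ha
  let μ : (G.ker : Ideal (MvPolynomial ι R)) →ₗ[R] (G.ker : Ideal (MvPolynomial ι R)) :=
    { toFun := fun a => (X i : MvPolynomial ι R) • a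
      map_add' := smul_add _
      map_smul' := fun c a => smul_comm _ c a }
  refine ⟨μ.lTensor R' t, ?_, ?_⟩
  · induction t with
    | zero => simp
    | add p q hp hq => simp only [map_add, mul_add, hp, hq]
    | tmul p q =>
      rw [LinearMap.lTensor_tmul, Φ_tmul, Φ_tmul]
      show C p * φ (X i * q.1) = _
      rw [map_mul, MvPolynomial.map_X, mul_left_comm]
  · induction t with
    | zero => simp
    | add p q hp hq => simp only [map_add, smul_add, hp, hq]
    | tmul p q =>
      rw [LinearMap.lTensor_tmul, Θ_tmul, Θ_tmul]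
      show algebraMap R' S' p ⊗ₜ Cotangent.mk (P := G.toExtension)
        ((X i : MvPolynomial ι R) • q : (G.ker : Ideal (MvPolynomial ι R))) = _
      rw [mk_smul G, aeval_X, smul_tmul', h i, ← smul_tmul, algebraMap_smul]

include h in
theorem Rel.mul {a : MvPolynomial ι R'} {x : S' ⊗[S] G.toExtension.Cotangent} (ha : Rel G a x)
    (p : MvPolynomial ι R') : Rel G (p * a) (aeval G'.val p • x) := by
  induction p using MvPolynomial.induction_on generalizing a x with
  | C r => rw [aeval_C]; exact ha.C_mul r
  | add p q hp hq => rw [add_mul, map_add, add_smul]; exact (hp ha).add (hq ha)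
  | mul_X p i hp =>
    rw [mul_assoc, map_mul, aeval_X, mul_smul]
    exact hp (ha.X_mul h i)

theorem rel_map (i : (G.ker : Ideal (MvPolynomial ι R))) :
    Rel (S' := S') (R' := R') G (φ i.1) (1 ⊗ₜ Cotangent.mk (P := G.toExtension) i) :=
  ⟨1 ⊗ₜ i, by rw [Φ_tmul, map_one, one_mul], by rw [Θ_tmul, map_one]⟩

include h in
theorem exists_rel [Algebra.IsPushout R R' S S'] {b : MvPolynomial ι R'} (hb : b ∈ G'.ker) :
    ∃ x : S' ⊗[S] G.toExtension.Cotangent, Rel G b x := by
  have hb' : b ∈ Ideal.span (φ '' (G.ker : Set (MvPolynomial ι R))) := (ker_eq G G' h).le hb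
  clear hb
  induction hb' using Submodule.span_induction with
  | mem w hw => obtain ⟨p, hp, rfl⟩ := hw; exact ⟨_, rel_map ⟨p, hp⟩⟩
  | zero => exact ⟨0, 0, map_zero _, map_zero _⟩
  | add a b _ _ ha hb => exact ⟨_, ha.choose_spec.add hb.choose_spec⟩
  | smul a b _ hb => exact ⟨_, hb.choose_spec.mul h a⟩

theorem cot_injective [Algebra.IsPushout R R' S S']
    (hinj : Function.Injective (LinearMap.lTensor R' (incl (G := G)))) :
    Function.Injective
      (LinearMap.liftBaseChange S' (Cotangent.map (NLCx.sameVarsHom G G' h).toExtensionHom)) := by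
  set L := LinearMap.liftBaseChange S' (Cotangent.map (NLCx.sameVarsHom G G' h).toExtensionHom)
  have hrep : ∀ x, ∃ j : G'.toExtension.ker, Rel G (j.1 : MvPolynomial ι R') x ∧
      Cotangent.mk j = L x := by
    intro x
    induction x with
    | zero => exact ⟨0, ⟨0, map_zero _, map_zero _⟩, by rw [map_zero, map_zero]⟩
    | add a b ha hb =>
      obtain ⟨j, hj, hj'⟩ := ha
      obtain ⟨k, hk, hk'⟩ := hb
      exact ⟨j + k, hj.add hk, by rw [map_add, map_add, hj', hk']⟩
    | tmul s m =>
      obtain ⟨i, rfl⟩ := Cotangent.mk_surjective m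
      obtain ⟨p, rfl⟩ := G'.aeval_val_surjective s
      refine ⟨(show G'.toExtension.Ring from p) • ⟨φ i.1, map_mem_ker h i.2⟩, ?_, ?_⟩
      · have := (rel_map (S' := S') (R' := R') i).mul h p
        rw [smul_tmul', smul_eq_mul, mul_one] at this
        exact this
      · rw [map_smul, ← smul_cotangent G', LinearMap.liftBaseChange_tmul, map_mk_eq h]
  rw [injective_iff_map_eq_zero]
  intro x hx
  obtain ⟨j, hj, hj'⟩ := hrep x
  rw [hx, Cotangent.mk_eq_zero_iff, pow_two] at hj'
  have h0 : Rel G (j.1 : MvPolynomial ι R') (0 : S' ⊗[S] G.toExtension.Cotangent) := by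
    refine Submodule.mul_induction_on hj' (fun a ha b hb => ?_) (fun a b ha hb => by
      have := ha.add hb
      rwa [add_zero] at this)
    obtain ⟨y, hy⟩ := exists_rel h hb
    have := hy.mul h a
    rwa [Algebra.Generators.aeval_val_eq_zero ha, zero_smul] at this
  obtain ⟨t, ht, rfl⟩ := hj
  obtain ⟨u, hu, hu'⟩ := h0
  rw [Φ_injective hinj (ht.trans hu.symm), hu']

end Injective

section Space

theorem space_bijective :
    Function.Bijective
      (LinearMap.liftBaseChange S' (CotangentSpace.map (NLCx.sameVarsHom G G' h).toExtensionHom)) := by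
  set L := LinearMap.liftBaseChange S' (CotangentSpace.map (NLCx.sameVarsHom G G' h).toExtensionHom)
  have e : L = ((G.cotangentSpaceBasis.baseChange S').equiv G'.cotangentSpaceBasis
      (Equiv.refl ι)).toLinearMap := by
    refine (G.cotangentSpaceBasis.baseChange S').ext fun i => ?_
    rw [LinearEquiv.coe_coe, Module.Basis.equiv_apply, Module.Basis.baseChange_apply,
      LinearMap.liftBaseChange_tmul, one_smul, Algebra.Generators.cotangentSpaceBasis_apply,
      Algebra.Generators.cotangentSpaceBasis_apply]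
    erw [CotangentSpace.map_tmul]
    rw [map_one]
    exact congrArg (fun q => (1 : S') ⊗ₜ[G'.toExtension.Ring]
      KaehlerDifferential.D R' G'.toExtension.Ring q) (Algebra.Generators.Hom.toAlgHom_X _ i)
  rw [e]
  exact LinearEquiv.bijective _

end Space

theorem bcH1Map_surjective [Algebra.IsPushout R R' S S'] :
    Function.Surjective (NLCx.bcH1Map (NLCx.sameVarsHom G G' h).toExtensionHom) := by
  intro y
  obtain ⟨x, hx⟩ := cot_surjective h y.1
  have key : ∀ z, G'.toExtension.cotangentComplex (LinearMap.liftBaseChange S'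
      (Cotangent.map (NLCx.sameVarsHom G G' h).toExtensionHom) z) =
      LinearMap.liftBaseChange S' (CotangentSpace.map (NLCx.sameVarsHom G G' h).toExtensionHom)
        (G.toExtension.cotangentComplex.baseChange S' z) := by
    intro z
    induction z with
    | zero => simp
    | add a b ha hb => simp only [map_add, ha, hb]
    | tmul s m => simp [CotangentSpace.map_cotangentComplex]
  have hk : x ∈ NLCx.bcH1 G.toExtension S' := by
    apply (space_bijective h).1
    rw [← key, hx, map_zero]
    exact y.2
  exact ⟨⟨x, hk⟩, Subtype.ext hx⟩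

end Groth.Agent.FlatMor12.NLBaseChange
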