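import Groth.Agent.FlatMor12.NLBaseChange.Core
import Mathlib.Algebra.Homology.HomotopyCategory

/-!
# Chain maps between naive cotangent complexes: functoriality and homotopies
-/

universe u

open CategoryTheory CategoryTheory.Limits TensorProduct Algebra.Extension HomologicalComplex
attribute [local instance] HasDerivedCategory.standard

set_option backward.isDefEq.respectTransparency false
set_option synthInstance.maxHeartbeats 200000

namespace Groth.Agent.FlatMor12.NLBaseChange

variable {R S R' S' : Type u} [CommRing R] [CommRing S] [CommRing R']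
    [CommRing S'] [Algebra R S] [Algebra R' S'] [Algebra R R'] [Algebra S S'] [Algebra R S']
    [IsScalarTower R R' S'] [IsScalarTower R S S']

theorem cx_isZero (P : Algebra.Extension.{u} R S) (k : ℤ) (h₁ : k ≠ -1) (h₀ : k ≠ 0) :
    IsZero ((NLCx.cx P).X k) :=
  isZero_double_X _ _ k h₁ h₀

theorem hom_ext {P : Algebra.Extension.{u} R S} {K : DRing.Cx S} {a b : NLCx.cx P ⟶ K}
    (h₁ : a.f (-1) = b.f (-1)) (h₀ : a.f 0 = b.f 0) : a = b := by
  ext1 k
  rcases eq_or_ne k (-1) with rfl | hk
  · exact h₁
  rcases eq_or_ne k 0 with rfl | hk'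
  · exact h₀
  exact (cx_isZero P k hk hk').eq_of_src _ _

theorem bc_hom_ext {P : Algebra.Extension.{u} R S} {K : DRing.Cx S'} {a b : NLCx.bcCx P S' ⟶ K}
    (h₁ : a.f (-1) = b.f (-1)) (h₀ : a.f 0 = b.f 0) : a = b := by
  ext1 k
  rcases eq_or_ne k (-1) with rfl | hk
  · exact h₁
  rcases eq_or_ne k 0 with rfl | hk'
  · exact h₀
  exact (isZero_double_X _ _ k hk hk').eq_of_src _ _

/-- The degree `-1` object of `cx P`. -/
noncomputable abbrev e₁ (P : Algebra.Extension.{u} R S) :
    (NLCx.cx P).X (-1) ≅ ModuleCat.of S P.Cotangent :=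
  doubleXIso₀ (ModuleCat.ofHom P.cotangentComplex) _

/-- The degree `0` object of `cx P`. -/
noncomputable abbrev e₀ (P : Algebra.Extension.{u} R S) :
    (NLCx.cx P).X 0 ≅ ModuleCat.of S P.CotangentSpace :=
  doubleXIso₁ (ModuleCat.ofHom P.cotangentComplex) _ (by decide)

theorem cx_d (P : Algebra.Extension.{u} R S) :
    (NLCx.cx P).d (-1) 0 = (e₁ P).hom ≫ ModuleCat.ofHom P.cotangentComplex ≫ (e₀ P).inv :=
  double_d _ _ (by decide)

section SameTop

variable [Algebra R' S] [IsScalarTower R R' S]
variable {P : Algebra.Extension.{u} R S} {P' : Algebra.Extension.{u} R' S}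

theorem map_f₁ (f : P.Hom P') : (NLCx.map f).f (-1) =
    (e₁ P).hom ≫ ModuleCat.ofHom (Cotangent.map f) ≫ (e₁ P').inv :=
  mkHomFromDouble_f₀ ..

theorem map_f₀ (f : P.Hom P') : (NLCx.map f).f 0 =
    (e₀ P).hom ≫ ModuleCat.ofHom (CotangentSpace.map f) ≫ (e₀ P').inv :=
  mkHomFromDouble_f₁ ..

end SameTop

theorem map_id (P : Algebra.Extension.{u} R S) : NLCx.map (Algebra.Extension.Hom.id P) = 𝟙 _ := by
  refine hom_ext ?_ ?_
  · rw [map_f₁, Cotangent.map_id, ModuleCat.ofHom_id, Category.id_comp, Iso.hom_inv_id]; rfl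
  · rw [map_f₀, CotangentSpace.map_id, ModuleCat.ofHom_id, Category.id_comp, Iso.hom_inv_id]; rfl

theorem map_comp {P P' P'' : Algebra.Extension.{u} R S} (f : P.Hom P') (g : P'.Hom P'') :
    NLCx.map (g.comp f) = NLCx.map f ≫ NLCx.map g := by
  refine hom_ext ?_ ?_
  · rw [HomologicalComplex.comp_f, map_f₁, map_f₁, map_f₁, Category.assoc, Category.assoc,
      Iso.inv_hom_id_assoc, Cotangent.map_comp]
    rfl
  · rw [HomologicalComplex.comp_f, map_f₀, map_f₀, map_f₀, Category.assoc, Category.assoc,
      Iso.inv_hom_id_assoc, CotangentSpace.map_comp]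
    rfl

open scoped Classical in
/-- Two morphisms of presentations give homotopic maps. -/
noncomputable def homotopy {P P' : Algebra.Extension.{u} R S} (f g : P.Hom P') :
    Homotopy (NLCx.map f) (NLCx.map g) where
  hom i j := if h : i = 0 ∧ j = -1 then
      eqToHom (by rw [h.1]) ≫ (e₀ P).hom ≫ ModuleCat.ofHom (f.sub g) ≫ (e₁ P').inv ≫
        eqToHom (by rw [h.2]) else 0
  zero i j hij := dif_neg fun h => hij (by simp [h.1, h.2])
  comm i := by
    rw [dNext_eq _ (show (ComplexShape.up ℤ).Rel i (i + 1) by simp),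
      prevD_eq _ (show (ComplexShape.up ℤ).Rel (i - 1) i by simp)]
    rcases eq_or_ne i (-1) with rfl | h₁
    · rw [dif_pos ⟨by norm_num, rfl⟩, dif_neg (by omega), zero_comp, add_zero]
      have e := congrArg ModuleCat.ofHom (Cotangent.map_sub_map f g)
      rw [map_f₁, map_f₁, ← sub_eq_iff_eq_add, ← Preadditive.comp_sub, ← Preadditive.sub_comp]
      show _ = (NLCx.cx P).d (-1) 0 ≫ (eqToHom rfl ≫ _ ≫ _ ≫ _ ≫ eqToHom rfl)
      rw [cx_d, eqToHom_refl, eqToHom_refl, Category.id_comp, Category.comp_id, Category.assoc,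
        Category.assoc, Iso.inv_hom_id_assoc]
      congr 1
      rw [← Category.assoc]
      congr 1
    rcases eq_or_ne i 0 with rfl | h₀
    · rw [dif_neg (by omega), dif_pos ⟨rfl, by norm_num⟩, comp_zero, zero_add]
      rw [map_f₀, map_f₀, ← sub_eq_iff_eq_add, ← Preadditive.comp_sub, ← Preadditive.sub_comp]
      show _ = (eqToHom rfl ≫ _ ≫ _ ≫ _ ≫ eqToHom rfl) ≫ (NLCx.cx P').d (-1) 0
      rw [cx_d, eqToHom_refl, eqToHom_refl, Category.id_comp, Category.comp_id, Category.assoc,
        Category.assoc, Iso.inv_hom_id_assoc]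
      congr 1
      rw [← Category.assoc]
      congr 1
      exact congrArg ModuleCat.ofHom (CotangentSpace.map_sub_map f g)
    exact (cx_isZero P i h₁ h₀).eq_of_src _ _

/-- Two presentations of the same algebra have homotopy equivalent complexes. -/
noncomputable def homotopyEquiv {P P' : Algebra.Extension.{u} R S} (f : P.Hom P') (g : P'.Hom P) :
    HomotopyEquiv (NLCx.cx P) (NLCx.cx P') where
  hom := NLCx.map f
  inv := NLCx.map g
  homotopyHomInvId := (Homotopy.ofEq (map_comp f g).symm).trans
    ((homotopy _ _).trans (Homotopy.ofEq (map_id P)))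
  homotopyInvHomId := (Homotopy.ofEq (map_comp g f).symm).trans
    ((homotopy _ _).trans (Homotopy.ofEq (map_id P')))

section BaseChange

variable {P : Algebra.Extension.{u} R S} {P' : Algebra.Extension.{u} R' S'}

theorem bcMap_f₁ (f : P.Hom P') : (NLCx.bcMap f).f (-1) =
    (doubleXIso₀ (ModuleCat.ofHom (P.cotangentComplex.baseChange S')) _).hom ≫
      ModuleCat.ofHom (LinearMap.liftBaseChange S' (Cotangent.map f)) ≫ (e₁ P').inv :=
  mkHomFromDouble_f₀ ..

theorem bcMap_f₀ (f : P.Hom P') : (NLCx.bcMap f).f 0 =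
    (doubleXIso₁ (ModuleCat.ofHom (P.cotangentComplex.baseChange S')) _ (by decide)).hom ≫
      ModuleCat.ofHom (LinearMap.liftBaseChange S' (CotangentSpace.map f)) ≫ (e₀ P').inv :=
  mkHomFromDouble_f₁ ..

theorem isIso_bcMap (f : P.Hom P')
    (h₁ : Function.Bijective (LinearMap.liftBaseChange S' (Cotangent.map f)))
    (h₀ : Function.Bijective (LinearMap.liftBaseChange S' (CotangentSpace.map f))) :
    IsIso (NLCx.bcMap f) := by
  have : ∀ k, IsIso ((NLCx.bcMap f).f k) := by
    intro k
    rcases eq_or_ne k (-1) with rfl | hk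
    · rw [bcMap_f₁]
      have : IsIso (ModuleCat.ofHom (LinearMap.liftBaseChange S' (Cotangent.map f))) :=
        (ConcreteCategory.isIso_iff_bijective _).2 h₁
      infer_instance
    rcases eq_or_ne k 0 with rfl | hk'
    · rw [bcMap_f₀]
      have : IsIso (ModuleCat.ofHom (LinearMap.liftBaseChange S' (CotangentSpace.map f))) :=
        (ConcreteCategory.isIso_iff_bijective _).2 h₀
      infer_instance
    exact ⟨⟨0, (isZero_double_X _ _ k hk hk').eq_of_src _ _, (cx_isZero P' k hk hk').eq_of_src _ _⟩⟩
  exact HomologicalComplex.Hom.isIso_of_components _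

theorem comp_lift {P'' : Algebra.Extension.{u} R' S'} (f : P.Hom P') (g : P'.Hom P'') :
    LinearMap.liftBaseChange S' (Cotangent.map (g.comp f)) =
        (Cotangent.map g) ∘ₗ LinearMap.liftBaseChange S' (Cotangent.map f) ∧
      LinearMap.liftBaseChange S' (CotangentSpace.map (g.comp f)) =
        (CotangentSpace.map g) ∘ₗ LinearMap.liftBaseChange S' (CotangentSpace.map f) := by
  constructor <;>
  · refine LinearMap.ext fun z => ?_
    induction z with
    | zero => simp
    | add a b ha hb => simp only [map_add, ha, hb]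
    | tmul s m =>
      simp only [LinearMap.comp_apply, LinearMap.liftBaseChange_tmul, map_smul,
        Cotangent.map_comp, CotangentSpace.map_comp_apply, LinearMap.restrictScalars_apply]

theorem bcMap_comp {P'' : Algebra.Extension.{u} R' S'} (f : P.Hom P') (g : P'.Hom P'') :
    NLCx.bcMap (g.comp f) = NLCx.bcMap f ≫ NLCx.map g := by
  refine bc_hom_ext ?_ ?_
  · rw [HomologicalComplex.comp_f, bcMap_f₁, bcMap_f₁, map_f₁, Category.assoc, Category.assoc,
      Iso.inv_hom_id_assoc, (comp_lift f g).1]
    rfl
  · rw [HomologicalComplex.comp_f, bcMap_f₀, bcMap_f₀, map_f₀, Category.assoc, Category.assoc,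
      Iso.inv_hom_id_assoc, (comp_lift f g).2]
    rfl

theorem bcH1Map_comp {P'' : Algebra.Extension.{u} R' S'} (f : P.Hom P') (g : P'.Hom P'') (x) :
    NLCx.bcH1Map (g.comp f) x = H1Cotangent.map g (NLCx.bcH1Map f x) :=
  Subtype.ext (LinearMap.congr_fun (comp_lift f g).1 x.1)

end BaseChange

section Self

variable (R S R' S') [Algebra.IsPushout R R' S S']

include R in
theorem aeval_algebraMap_surjective :
    Function.Surjective (MvPolynomial.aeval (R := R') (algebraMap S S')) := by
  intro y
  obtain ⟨z, rfl⟩ := (Algebra.IsPushout.equiv R R' S S').surjective y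
  induction z with
  | zero => exact ⟨0, by simp⟩
  | add a b ha hb =>
    obtain ⟨p, hp⟩ := ha
    obtain ⟨q, hq⟩ := hb
    exact ⟨p + q, by rw [map_add, map_add, hp, hq]⟩
  | tmul r s =>
    exact ⟨MvPolynomial.C r * MvPolynomial.X s, by
      rw [map_mul, MvPolynomial.aeval_C, MvPolynomial.aeval_X, Algebra.IsPushout.equiv_tmul]⟩

/-- The presentation of `S'` over `R'` by the elements of `S`. -/
noncomputable def selfBC : Algebra.Generators R' S' S :=
  Algebra.Generators.ofSurjective (algebraMap S S') (aeval_algebraMap_surjective R S R' S')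

/-- Same variables. -/
noncomputable abbrev selfHom :=
  NLCx.sameVarsHom (Algebra.Generators.self R S) (selfBC R S R' S') (fun _ => rfl)

theorem defaultHom_eq :
    ((Algebra.Generators.self R S).defaultHom (Algebra.Generators.self R' S')).toExtensionHom =
      ((selfBC R S R' S').defaultHom (Algebra.Generators.self R' S')).toExtensionHom.comp
        (selfHom R S R' S').toExtensionHom := by
  rw [← Algebra.Generators.Hom.toExtensionHom_comp]
  congr 1
  ext s : 2
  show MvPolynomial.X (algebraMap S S' s) = MvPolynomial.aeval _ (MvPolynomial.X s)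
  rw [MvPolynomial.aeval_X]
  rfl

theorem bcH1Map_self_surjective :
    Function.Surjective (NLCx.bcH1Map
      ((Algebra.Generators.self R S).defaultHom (Algebra.Generators.self R' S')).toExtensionHom) := by
  rw [defaultHom_eq R S R' S']
  intro y
  obtain ⟨y', rfl⟩ := (Algebra.Extension.H1Cotangent.equiv
    ((selfBC R S R' S').defaultHom (Algebra.Generators.self R' S')).toExtensionHom
    ((Algebra.Generators.self R' S').defaultHom (selfBC R S R' S')).toExtensionHom).surjective y
  obtain ⟨x, rfl⟩ := bcH1Map_surjective (G := Algebra.Generators.self R S) (G' := selfBC R S R' S') (fun _ => rfl) y'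
  exact ⟨x, bcH1Map_comp _ _ _⟩

theorem exists_homotopyEquiv_self
    (hinj : Function.Injective (LinearMap.lTensor R' (incl (G := Algebra.Generators.self R S)))) :
    ∃ e : HomotopyEquiv (NLCx.bcCx (Algebra.Generators.self R S).toExtension S')
        (NLCx.cx (Algebra.Generators.self R' S').toExtension),
      e.hom = NLCx.bcMapSelf R S R' S' := by
  have : IsIso (NLCx.bcMap (S' := S') (selfHom R S R' S').toExtensionHom) :=
    isIso_bcMap _ ⟨cot_injective _ hinj, cot_surjective _⟩ (space_bijective _)
  refine ⟨(HomotopyEquiv.ofIso (asIso (NLCx.bcMap (S' := S') (selfHom R S R' S').toExtensionHom))).trans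
    (homotopyEquiv ((selfBC R S R' S').defaultHom (Algebra.Generators.self R' S')).toExtensionHom
      ((Algebra.Generators.self R' S').defaultHom (selfBC R S R' S')).toExtensionHom), ?_⟩
  unfold NLCx.bcMapSelf
  rw [defaultHom_eq R S R' S', bcMap_comp]
  rfl

end Self

section Hinj

theorem incl_injective {ι : Type u} (G : Algebra.Generators R S ι) :
    Function.Injective (incl (G := G)) :=
  Subtype.val_injective

theorem lTensor_incl_injective_of_flat_base [Module.Flat R R'] {ι : Type u}
    (G : Algebra.Generators R S ι) : Function.Injective (LinearMap.lTensor R' (incl (G := G))) :=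
  Module.Flat.lTensor_preserves_injective_linearMap _ (incl_injective G)

end Hinj

end Groth.Agent.FlatMor12.NLBaseChange
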