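import Groth.Agent.FlatMor12.NLBaseChange.Cx
import Groth.Agent.DCat.LTensorModule
import Groth.Agent.DCat.TwoTermRep
import Groth.Agent.DRingLib.PCPerf

/-!
# Derived base change of `NL` when it has tor amplitude in `[-1, 0]`
-/

universe u

open CategoryTheory CategoryTheory.Limits TensorProduct HomologicalComplex
attribute [local instance] HasDerivedCategory.standard

set_option backward.isDefEq.respectTransparency false
set_option backward.defeqAttrib.useBackward true
set_option synthInstance.maxHeartbeats 200000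

namespace Groth.Agent.FlatMor12.NLBaseChange

section Elem

variable {R : Type u} [CommRing R]

open CategoryTheory.ShortComplex in
/-- Converse of `TwoTerm.quasiIso_of`. -/
theorem elements_of_quasiIso {S₁ S₂ : ShortComplex (ModuleCat.{u} R)} (φ : S₁ ⟶ S₂)
    (h : ShortComplex.QuasiIso φ) :
    (∀ x, S₁.g x = 0 → φ.τ₂ x ∈ LinearMap.range S₂.f.hom → x ∈ LinearMap.range S₁.f.hom) ∧
    (∀ y, S₂.g y = 0 → ∃ x, S₁.g x = 0 ∧ y - φ.τ₂ x ∈ LinearMap.range S₂.f.hom) := by
  let γ : LeftHomologyMapData φ S₁.moduleCatLeftHomologyData S₂.moduleCatLeftHomologyData := default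
  rw [γ.quasiIso_iff, ConcreteCategory.isIso_iff_bijective] at h
  let k : LinearMap.ker S₁.g.hom → LinearMap.ker S₂.g.hom := fun x => γ.φK x
  have hK : ∀ x : LinearMap.ker S₁.g.hom, (k x).1 = φ.τ₂ x.1 :=
    fun x => LinearMap.congr_fun (congrArg ModuleCat.Hom.hom γ.commi) x
  have hH : ∀ x : LinearMap.ker S₁.g.hom,
      γ.φH (Submodule.Quotient.mk x) = Submodule.Quotient.mk (k x) :=
    fun x => ConcreteCategory.congr_hom γ.commπ x
  refine ⟨fun x hx hr => ?_, fun y hy => ?_⟩
  · obtain ⟨w, hw⟩ := hr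
    have h0 : γ.φH (Submodule.Quotient.mk (⟨x, hx⟩ : LinearMap.ker S₁.g.hom)) = γ.φH 0 := by
      rw [map_zero]
      refine (hH _).trans ((Submodule.Quotient.mk_eq_zero _).2 ⟨w, Subtype.ext ?_⟩)
      exact hw.trans (hK ⟨x, hx⟩).symm
    obtain ⟨v, hv⟩ := (Submodule.Quotient.mk_eq_zero _).1 (h.1 h0)
    exact ⟨v, congrArg Subtype.val hv⟩
  · obtain ⟨z, hz⟩ := h.2 (Submodule.Quotient.mk (⟨y, hy⟩ : LinearMap.ker S₂.g.hom))
    obtain ⟨x, rfl⟩ := Submodule.Quotient.mk_surjective _ z
    refine ⟨x.1, x.2, ?_⟩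
    obtain ⟨w, hw⟩ := (Submodule.Quotient.eq _).1 ((hH x).symm.trans hz)
    refine ⟨-w, ?_⟩
    rw [map_neg, ← hK x]
    have := congrArg Subtype.val hw
    exact (congrArg Neg.neg this).trans (neg_sub (k x).1 y)

/-- In a two-term complex with projective right term, tor amplitude in `[-1,0]` makes the left term flat. -/
theorem flat_left (M : DRing.Cx R) (hM : DRing.VanishesOutside M (-1) 0) [Module.Projective R (M.X 0)]
    (h : DRing.HasTorAmplitudeIn R (-1) 0 (DRing.toD M)) : Module.Flat R (M.X (-1)) := by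
  obtain ⟨P, hP, hPf, ⟨e⟩⟩ := h
  haveI hM0 : Projective (M.X 0) := (inferInstance : Projective (ModuleCat.of R (M.X 0)))
  haveI : P.IsStrictlyGE (-1) := by
    rw [CochainComplex.isStrictlyGE_iff]; exact fun i hi => hP i (Or.inl hi)
  obtain ⟨φ, hφ⟩ := (DCat.TwoTerm.bijective_Qh (M := M) (fun i hi => hM i (Or.inr hi)) P).2
    ((DerivedCategory.quotientCompQhIso (ModuleCat.{u} R)).hom.app M ≫ e.inv ≫
      (DerivedCategory.quotientCompQhIso (ModuleCat.{u} R)).inv.app P)
  obtain ⟨g, rfl⟩ := (HomotopyCategory.quotient _ _).map_surjective φ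
  dsimp only at hφ
  have hiso : IsIso (DerivedCategory.Q.map g) := by
    refine (NatIso.isIso_map_iff (DerivedCategory.quotientCompQhIso (ModuleCat.{u} R)) g).1 ?_
    show IsIso (DerivedCategory.Qh.map ((HomotopyCategory.quotient _ _).map g))
    rw [hφ]
    infer_instance
  haveI hq : QuasiIso g := (DerivedCategory.isIso_Q_map_iff_quasiIso (φ := g)).1 hiso
  have hm1 := elements_of_quasiIso _ ((quasiIsoAt_iff' g (-2) (-1) 0 (by simp) (by simp)).1 inferInstance)
  have hz := elements_of_quasiIso _ ((quasiIsoAt_iff' g (-1) 0 1 (by simp) (by simp)).1 inferInstance)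
  have s2 : Subsingleton (P.X (-2)) := ModuleCat.subsingleton_of_isZero (hP _ (Or.inl (by omega)))
  have s2M : Subsingleton (M.X (-2)) := ModuleCat.subsingleton_of_isZero (hM _ (Or.inl (by omega)))
  have s1 : Subsingleton (P.X 1) := ModuleCat.subsingleton_of_isZero (hP _ (Or.inr (by omega)))
  have s1M : Subsingleton (M.X 1) := ModuleCat.subsingleton_of_isZero (hM _ (Or.inr (by omega)))
  let d := (M.d (-1) 0).hom
  let dP := (P.d (-1) 0).hom
  let f : M.X (-1) →ₗ[R] M.X 0 × P.X (-1) := LinearMap.prod d (g.f (-1)).hom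
  let q : M.X 0 × P.X (-1) →ₗ[R] P.X 0 := (g.f 0).hom ∘ₗ LinearMap.fst R _ _ - dP ∘ₗ LinearMap.snd R _ _
  have hcomm : ∀ x, dP ((g.f (-1)).hom x) = (g.f 0).hom (d x) := fun x =>
    LinearMap.congr_fun (congrArg ModuleCat.Hom.hom (g.comm (-1) 0)) x
  have := hPf (-1); have := hPf 0
  have : Module.Flat R (M.X 0) := Module.Flat.of_projective
  haveI := DRingLib.flat_prod (R := R) (N := M.X 0) (P := P.X (-1))
  refine DRingLib.flat_of_shortExact (f := f) (g := q) ?_ ?_ ?_
  · rw [injective_iff_map_eq_zero]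
    intro x hx
    obtain ⟨v, hv⟩ := hm1.1 x (congrArg Prod.fst hx) ⟨0, (map_zero _).trans (congrArg Prod.snd hx).symm⟩
    have hv0 : v = 0 := @Subsingleton.elim _ s2M _ _
    rw [← hv, hv0]
    exact map_zero _
  · intro z
    obtain ⟨y, -, w, hw⟩ := hz.2 z (@Subsingleton.elim _ s1 _ _)
    refine ⟨(y, -w), ?_⟩
    show (g.f 0).hom y - dP (-w) = z
    rw [map_neg, sub_neg_eq_add]
    exact (congrArg ((g.f 0).hom y + ·) hw).trans (add_sub_cancel _ z)
  · rintro ⟨y, w⟩
    constructor
    · intro hyw
      have hyw' : (g.f 0).hom y = dP w := sub_eq_zero.1 hyw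
      obtain ⟨(x₀ : M.X (-1)), hx₀⟩ := hz.1 y (@Subsingleton.elim _ s1M _ _) ⟨w, hyw'.symm⟩
      have hx₀' : d x₀ = y := hx₀
      obtain ⟨(x₁ : M.X (-1)), hx₁, v, hv⟩ := hm1.2 (w - (g.f (-1)).hom x₀) (by
        show dP _ = 0
        rw [map_sub, hcomm, hx₀', hyw', sub_self])
      refine ⟨x₀ + x₁, Prod.ext ?_ ?_⟩
      · show d (x₀ + x₁) = y
        rw [map_add, hx₀', show d x₁ = 0 from hx₁, add_zero]
      · show (g.f (-1)).hom (x₀ + x₁) = w
        have hv0 : v = 0 := @Subsingleton.elim _ s2 _ _
        rw [hv0, map_zero] at hv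
        rw [map_add]
        exact ((add_comm _ _).trans ((eq_sub_iff_add_eq.1 (sub_eq_zero.1 hv.symm).symm)))
    · rintro ⟨x, hx⟩
      rw [← hx]
      show (g.f 0).hom (d x) - dP ((g.f (-1)).hom x) = 0
      rw [hcomm, sub_self]

end Elem

section ExtendScalars

/-- Identity on `B`. -/
noncomputable def eB (A B : Type u) [CommRing A] [CommRing B] [Algebra A B] :
    ((ModuleCat.restrictScalars (algebraMap A B)).obj (ModuleCat.of B B)) ≃ₗ[A] B :=
  { AddEquiv.refl B with map_smul' := fun a b => (Algebra.smul_def a (show B from b)).symm }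

/-- Extension of scalars is `B ⊗ -`. -/
noncomputable def eTen (A B : Type u) [CommRing A] [CommRing B] [Algebra A B] (M : Type u) [AddCommGroup M]
    [Module A M] :
    ((ModuleCat.extendScalars.{u, u, u} (algebraMap A B)).obj (ModuleCat.of A M)) ≅
      ModuleCat.of B (TensorProduct A B M) :=
  let f := TensorProduct.congr (eB A B) (LinearEquiv.refl A M)
  LinearEquiv.toModuleIso (X₁ := (ModuleCat.extendScalars.{u, u, u} (algebraMap A B)).obj (ModuleCat.of A M))
    (X₂ := ModuleCat.of B (TensorProduct A B M))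
    { f.toAddEquiv with
      map_smul' := fun b x => by
        induction x using TensorProduct.induction_on with
        | zero => exact (congrArg f (smul_zero b)).trans ((map_zero f).trans (by
            exact (smul_zero b).symm.trans (congrArg (b • ·) (map_zero f).symm)))
        | tmul c m => rfl
        | add x y hx hy =>
          exact (congrArg f (smul_add b x y)).trans ((map_add f _ _).trans ((congrArg₂ (· + ·) hx hy).trans
            ((smul_add b _ _).symm.trans (congrArg (b • ·) (map_add f x y).symm)))) }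

theorem eTen_natural {A B : Type u} [CommRing A] [CommRing B] [Algebra A B] {M N : Type u} [AddCommGroup M]
    [Module A M] [AddCommGroup N] [Module A N] (l : M →ₗ[A] N) :
    (ModuleCat.extendScalars.{u, u, u} (algebraMap A B)).map (ModuleCat.ofHom l) ≫ (eTen A B N).hom =
      (eTen A B M).hom ≫ ModuleCat.ofHom (l.baseChange B) := by
  refine ModuleCat.ExtendScalars.hom_ext (f := algebraMap A B) fun m => ?_
  rfl

end ExtendScalars

variable {R S : Type u} [CommRing R] [CommRing S] [Algebra R S] (P : Algebra.Extension.{u} R S)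
  (S' : Type u) [CommRing S'] [Algebra S S']

/-- Extension of scalars of `cx P` is `bcCx P`. -/
noncomputable def bcIso : NLCx.bcCx P S' ≅
    ((ModuleCat.extendScalars.{u, u, u} (algebraMap S S')).mapHomologicalComplex (ComplexShape.up ℤ)).obj
      (NLCx.cx P) :=
  let F := ModuleCat.extendScalars.{u, u, u} (algebraMap S S')
  let ψ : NLCx.bcCx P S' ⟶ (F.mapHomologicalComplex (ComplexShape.up ℤ)).obj (NLCx.cx P) :=
    HomologicalComplex.mkHomFromDouble _ (by decide)
      ((eTen S S' P.Cotangent).inv ≫ F.map (e₁ P).inv)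
      ((eTen S S' P.CotangentSpace).inv ≫ F.map (e₀ P).inv)
      (by
        rw [Functor.mapHomologicalComplex_obj_d, cx_d, Category.assoc, ← F.map_comp,
          Iso.inv_hom_id_assoc, F.map_comp]
        have n' : (eTen S S' P.Cotangent).inv ≫ F.map (ModuleCat.ofHom P.cotangentComplex) =
            ModuleCat.ofHom (P.cotangentComplex.baseChange S') ≫ (eTen S S' P.CotangentSpace).inv := by
          rw [Iso.inv_comp_eq, ← Category.assoc, ← eTen_natural, Category.assoc, Iso.hom_inv_id,
            Category.comp_id]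
        rw [reassoc_of% n'])
      (fun k hk => (F.map_isZero (cx_isZero P k (by simp at hk; omega) (by simp at hk; omega))).eq_of_tgt _ _)
  haveI : IsIso ψ := by
    have : ∀ k, IsIso (ψ.f k) := by
      intro k
      rcases eq_or_ne k (-1) with rfl | hk
      · simp only [ψ, mkHomFromDouble_f₀]; infer_instance
      rcases eq_or_ne k 0 with rfl | hk'
      · simp only [ψ, mkHomFromDouble_f₁]; infer_instance
      exact ⟨⟨0, (isZero_double_X _ _ k hk hk').eq_of_src _ _,
        (F.map_isZero (cx_isZero P k hk hk')).eq_of_src _ _⟩⟩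
    exact HomologicalComplex.Hom.isIso_of_components _
  asIso ψ

theorem nonempty_lbaseChange_self {R' : Type u} [CommRing R'] [Algebra R' S']
    [DRing.HasLBaseChange (algebraMap S S')]
    (h : DRing.HasTorAmplitudeIn S (-1) 0 (LCI.NL R S))
    (e : Nonempty (DRing.toD (NLCx.bcCx (Algebra.Generators.self R S).toExtension S') ≅ LCI.NL R' S')) :
    Nonempty ((DRing.LBaseChange (algebraMap S S')).obj (LCI.NL R S) ≅ LCI.NL R' S') := by
  obtain ⟨e⟩ := e
  let G := (Algebra.Generators.self R S)
  have hv : DRing.VanishesOutside (NLCx.cx G.toExtension) (-1) 0 := fun i hi =>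
    cx_isZero _ i (by omega) (by omega)
  haveI : Module.Projective S ((NLCx.cx G.toExtension).X 0) :=
    Module.Projective.of_equiv (e₀ G.toExtension).symm.toLinearEquiv
  have h1 := flat_left (NLCx.cx G.toExtension) hv h
  have hf : DRing.TermwiseFlat (NLCx.cx G.toExtension) := by
    intro i
    rcases eq_or_ne i (-1) with rfl | hk
    · exact h1
    rcases eq_or_ne i 0 with rfl | hk'
    · exact Module.Flat.of_projective
    have := ModuleCat.subsingleton_of_isZero (cx_isZero G.toExtension i hk hk')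
    infer_instance
  exact ⟨DCat.lbaseChangeIso (algebraMap S S')
      (DCat.isKFlatFor_of_vanishesAbove (NLCx.cx G.toExtension) 0 (fun n hn => hv n (Or.inr hn)) hf) ≪≫
    DerivedCategory.Q.mapIso (bcIso G.toExtension S').symm ≪≫ e⟩

end Groth.Agent.FlatMor12.NLBaseChange
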