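import Groth.Agent.FlatMor12.NLBaseChange.Cx
import Groth.Agent.CAlgML.UI

/-!
# Flat top: the kernel of a presentation stays injective after tensoring
-/

universe u

open TensorProduct

set_option backward.isDefEq.respectTransparency false
set_option synthInstance.maxHeartbeats 200000

namespace Groth.Agent.FlatMor12.NLBaseChange

variable {R S : Type u} [CommRing R] [CommRing S] [Algebra R S] [Module.Flat R S]
  (R' : Type u) [CommRing R'] [Algebra R R'] {ι : Type u} (G : Algebra.Generators R S ι)

theorem lTensor_incl_injective_of_flat :
    Function.Injective (LinearMap.lTensor R' (incl (G := G))) := by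
  have hex : Function.Exact (incl (G := G)) (MvPolynomial.aeval (R := R) G.val).toLinearMap := by
    intro x
    rw [AlgHom.toLinearMap_apply, ← RingHom.mem_ker, ← Algebra.Generators.ker_eq_ker_aeval_val]
    exact ⟨fun h => ⟨⟨x, h⟩, rfl⟩, fun ⟨y, hy⟩ => hy ▸ y.2⟩
  have := Groth.Agent.CAlgML.ui_of_flat_right _ _ (incl_injective G) hex G.aeval_val_surjective R'
  intro a b hab
  apply (TensorProduct.comm R R' _).injective
  apply this
  have e : ∀ z, LinearMap.rTensor R' (incl (G := G)) (TensorProduct.comm R R' _ z) =
      TensorProduct.comm R R' _ (LinearMap.lTensor R' (incl (G := G)) z) := by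
    intro z
    induction z with
    | zero => simp
    | add a b ha hb => simp only [map_add, ha, hb]
    | tmul r m => rfl
  rw [e, e, hab]

end Groth.Agent.FlatMor12.NLBaseChange
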